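import Cfsg.Agent.H670.Palfy.Sld

/-!
# Degree graphs of solvable groups: `2 K_n` does not occur (helper377, plan of helper670)

`noTwo` : the primes dividing the degrees of a finite solvable group are not the disjoint union of two sets `A`, `B` with
`|A| = |B| ≥ 2` and no degree divisible by an element of `A` and an element of `B`.
-/

set_option autoImplicit false
set_option linter.unusedSectionVars false
set_option linter.style.haveILetI false

namespace Cfsg.Agent.H377.DegSolv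

open Cfsg.Agent.H670.Palfy Subgroup

universe u v

/-! ### General facts -/

theorem exists_minN {G : Type u} [Group G] [Finite G] [Nontrivial G] : ∃ M : Subgroup G, MinN M := by
  obtain ⟨M, hM⟩ := (Set.toFinite {N : Subgroup G | N.Normal ∧ N ≠ ⊥}).exists_minimal
    ⟨⊤, inferInstance, top_ne_bot⟩
  refine ⟨M, hM.prop.2, hM.prop.1, fun N hN hle => ?_⟩
  by_cases h : N = ⊥
  · exact Or.inl h
  · exact Or.inr (le_antisymm hle (hM.le_of_le ⟨hN, h⟩ hle))

theorem rho_of_quot {G : Type u} [Group G] {M : Subgroup G} [M.Normal] {p : ℕ} (h : Rho p (G ⧸ M)) : Rho p G := by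
  obtain ⟨e, he, hd⟩ := h
  exact ⟨e, H681.DegBasic.charDegrees_comp (QuotientGroup.mk' M) (QuotientGroup.mk'_surjective M) he, hd⟩

theorem na_quot {G : Type u} [Group G] {M : Subgroup G} [M.Normal] {a b : ℕ} (h : NA a b G) : NA a b (G ⧸ M) :=
  fun e he => h e (H681.DegBasic.charDegrees_comp (QuotientGroup.mk' M) (QuotientGroup.mk'_surjective M) he)

theorem na_symm {G : Type u} [Group G] {a b : ℕ} (h : NA a b G) : NA b a G := fun e he h1 h2 => h e he h2 h1

theorem nontrivial_of_card {V : Type v} [AddCommGroup V] {p n : ℕ} (hp : p.Prime) (hn : 0 < n)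
    (hV : Nat.card V = p ^ n) : Nontrivial V := by
  have h1 : 1 < Nat.card V := by rw [hV]; exact Nat.one_lt_pow hn.ne' hp.one_lt
  haveI : Finite V := Nat.finite_of_card_ne_zero (by omega)
  exact Finite.one_lt_card_iff_nontrivial.1 h1

/-- a prime whose Sylow subgroups lie in the kernel does not divide its index -/
theorem not_dvd_index {H : Type u} {V : Type v} [Group H] [AddCommGroup V] [DistribMulAction H V] [Finite H]
    {t : ℕ} [ht : Fact t.Prime] (Q : Sylow t H) (hQ : Triv V (Q : Subgroup H)) : ¬ t ∣ (Ker H V).index := by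
  have h1 : (Q : Subgroup H) ≤ Ker H V := fun x hx v => hQ x hx v
  intro h
  exact Q.not_dvd_index (h.trans (Subgroup.index_dvd_of_le h1))

/-- The counting argument. -/
theorem core (hSL : FactSL.{u, v}) (hN : FactNum) {H : Type u} {V : Type v} [Group H] [AddCommGroup V]
    [DistribMulAction H V] [Finite H] [Finite V] (hH : Group.IsSolvable H) {l n p : ℕ} (hl : l.Prime) (hn : 0 < n)
    (hV : Nat.card V = l ^ n) (hirr : Irr H V) {D : Set ℕ} (hc : Cfg D H V p) {A B : Finset ℕ} (hB : 2 ≤ B.card)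
    (hAB : A.card ≤ B.card) (hpr : ∀ b ∈ B, b.Prime)
    (hD : ∀ e ∈ D, p ∣ e → ∀ t, t.Prime → t ∣ e → t ∈ A)
    (huf : ∀ b ∈ B, UF b H (⊥ : AddSubgroup V)) (hnt : ∀ b ∈ B, ∀ Z : Sylow b H, ¬ Triv V (Z : Subgroup H)) :
    False := by
  classical
  obtain ⟨b, hb, hbl⟩ := Finset.exists_mem_ne (show 1 < B.card by omega) l
  haveI : Fact b.Prime := ⟨hpr b hb⟩
  obtain ⟨Z⟩ : Nonempty (Sylow b H) := inferInstance
  obtain ⟨C, hC⟩ := hSL H V l n b hH hl hn hV hirr (hpr b hb) hbl (huf b hb) ⟨Z, hnt b hb Z⟩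
  have h1 : ∀ z ∈ B, ∃ k m : ℕ, z ∣ C.index ∧ 0 < k ∧ n = m * z ^ k ∧ (l ^ n - 1) / (l ^ m - 1) ≡ 1 [MOD z] ∧
      (l ^ n - 1) / (l ^ m - 1) ∣ (Ker H V).relIndex C := by
    intro z hz
    haveI : Fact z.Prime := ⟨hpr z hz⟩
    obtain ⟨Q⟩ : Nonempty (Sylow z H) := inferInstance
    obtain ⟨h2, -, k, m, h3, h4, -, h5, h6⟩ := hC.uf z (hpr z hz) (huf z hz) Q (hnt z hz Q)
    exact ⟨k, m, h2, h3, h4, h5, h6⟩
  choose! k m hkm using h1
  have h2 := hN l n B B m k hl hn (Finset.Subset.refl _) hB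
    (fun w hw => ⟨hpr w hw, (hkm w hw).1.trans hC.dvd⟩)
    (fun z hz => ⟨(hkm z hz).2.1, (hkm z hz).2.2.1, (hkm z hz).2.2.2.1⟩)
  haveI := nontrivial_of_card hl hn hV
  obtain ⟨v, hv⟩ := exists_ne (0 : V)
  obtain ⟨e, he, hde, hpe⟩ := hc v hv 1 H681.DegBasic.one_mem
  rw [mul_one] at hde
  have h3 : (∏ z ∈ B, (l ^ n - 1) / (l ^ m z - 1)).primeFactors ⊆ A := by
    intro t ht
    have htp := Nat.prime_of_mem_primeFactors ht
    obtain ⟨z, hz, hd⟩ := (Prime.dvd_finsetProd_iff htp.prime _).1 (Nat.dvd_of_mem_primeFactors ht)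
    exact hD e he hpe t htp ((hd.trans ((hkm z hz).2.2.2.2.trans (hC.stab v hv))).trans hde)
  have h4 := Finset.card_le_card h3
  omega

section T2

variable {G : Type u} [Group G] [Finite G] {M P : Subgroup G} [M.Normal] [P.Normal] {H : Subgroup G} {p : ℕ}

theorem finite_V (hp : p.Prime) (h : T2 G M P H p) : Finite (LC M) := by
  obtain ⟨n, -, hn⟩ := h.card
  exact Nat.finite_of_card_ne_zero (by rw [hn]; exact (Nat.pow_pos hp.pos).ne')

theorem finite_W (hp : p.Prime) (h : T2 G M P H p) : Finite (LC P) := by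
  obtain ⟨n, hn⟩ := h.cardW
  exact Nat.finite_of_card_ne_zero (by rw [hn]; exact (Nat.pow_pos hp.pos).ne')

theorem coprime_card (hp : p.Prime) (h : T2 G M P H p) {y : ℕ} [hy : Fact y.Prime] (hyp : y ≠ p) (Y : Sylow y H) :
    (Nat.card (Y : Subgroup H)).Coprime (Nat.card (LC P)) := by
  obtain ⟨m, hm⟩ := h.cardW
  obtain ⟨k, hk⟩ := IsPGroup.iff_card.1 Y.isPGroup'
  rw [hm, hk]
  exact Nat.Coprime.pow _ _ ((Nat.coprime_primes hy.out hp).2 hyp)

/-- The module `[W, Y]`. -/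
abbrev SW (P : Subgroup G) [P.Normal] {y : ℕ} (Y : Sylow y H) (hY : (Y : Subgroup H).Normal) : Type u :=
  Sub (H := H) (inv_com (V := LC P) (Y : Subgroup H) hY)

/-- Fact (B). -/
theorem factB (hSL : FactSL.{u, u}) (hG : Group.IsSolvable G) (hp : p.Prime) (h : T2 G M P H p) {y z : ℕ}
    [hy : Fact y.Prime] [hz : Fact z.Prime] (hyp : y ≠ p) (hzp : z ≠ p) (hna : NA y z G)
    (hrz : Rho z G) (Y : Sylow y H) (hY : (Y : Subgroup H).Normal) (hYW : ¬ Triv (LC P) (Y : Subgroup H)) :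
    ∃ (n : ℕ) (C : Subgroup H), 0 < n ∧ Nat.card (com (LC P) (Y : Subgroup H)) = p ^ n ∧
      SLD H (SW P Y hY) C p n ∧ UF z H (⊥ : AddSubgroup (SW P Y hY)) ∧
      (∀ Z : Sylow z H, ¬ Triv (SW P Y hY) (Z : Subgroup H)) ∧
      (∀ Z : Sylow z H, ∀ x ∈ (Z : Subgroup H), ∀ v ∈ fixed (LC P) (Y : Subgroup H), x • v = v) ∧
      (∀ Z : Sylow z H, ∀ a ∈ (Z : Subgroup H), ∀ b ∈ (Z : Subgroup H), a * b = b * a) ∧
      C.index ∈ Cfsg.charDegrees G := by
  have hfW := finite_W hp h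
  have hH : Group.IsSolvable H := inferInstance
  have hcop := coprime_card hp h hyp Y
  have hI := inv_com (V := LC P) (Y : Subgroup H) hY
  have hne : com (LC P) (Y : Subgroup H) ≠ ⊥ := fun h1 => hYW (com_eq_bot_iff.1 h1)
  have hinf := fixed_inf_com (V := LC P) (Y : Subgroup H) hcop
  obtain ⟨huf, hcomm⟩ := uf_of_cfg_fixed (z := z) hH h.cfgW (fun e he _ h1 h2 => hna e he h1 h2) Y hY
  have hntop : ∃ v : LC P, v ∉ fixed (LC P) (Y : Subgroup H) := by
    by_contra hcon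
    push Not at hcon
    exact hYW fun x hx v => hcon v x hx
  have hfix : ∀ Z : Sylow z H, ∀ x ∈ (Z : Subgroup H), ∀ v ∈ fixed (LC P) (Y : Subgroup H), x • v = v := fun Z =>
    huf.triv_of_compl (inv_fixed _ hY) hI hinf hne Z
  have hnt : ∀ Z : Sylow z H, ¬ Triv (SW P Y hY) (Z : Subgroup H) := by
    intro Z hZ
    rw [Sub.triv_iff] at hZ
    have hW : Triv (LC P) (Z : Subgroup H) := by
      intro x hx v
      obtain ⟨a, ha, b, hb, rfl⟩ := com_sup_fixed (V := LC P) (Y : Subgroup H) hcop v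
      rw [smul_add, hZ x hx a ha, hfix Z x hx b hb]
    have hN := huf.normal_of_triv (fun h1 => by
      obtain ⟨v, hv⟩ := hntop
      exact hv (h1 ▸ AddSubgroup.mem_top v)) hW
    exact h.nt z hz.out hzp hrz Z hN (hcomm hntop Z) hW
  have huf' : UF z H (⊥ : AddSubgroup (SW P Y hY)) := huf.sub hI hinf
  obtain ⟨N, hN⟩ := h.cardW
  obtain ⟨n, hn, hcard⟩ := exists_card_fixed hp hN (com (LC P) (Y : Subgroup H))
  have hn0 : 0 < n := by
    rcases Nat.eq_zero_or_pos n with h0 | h0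
    · rw [h0, pow_zero, AddSubgroup.card_eq_one] at hcard
      exact absurd hcard hne
    · exact h0
  obtain ⟨Z⟩ : Nonempty (Sylow z H) := inferInstance
  have hcard' : Nat.card (SW P Y hY) = p ^ n := hcard
  obtain ⟨C, hC⟩ := hSL H (SW P Y hY) p n z hH hp hn0 hcard' (huf'.irr hp hcard' (hnt Z)) hz.out hzp huf'
    ⟨Z, hnt Z⟩
  exact ⟨n, C, hn0, hcard, hC, huf', hnt, hfix, hcomm hntop, h.cd hC.deg⟩

/-- Fact (D): `y` and `|C : K|` divide a degree. -/
theorem factD (hp : p.Prime) (h : T2 G M P H p) {y : ℕ} [hy : Fact y.Prime] (Y : Sylow y H)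
    (hY : (Y : Subgroup H).Normal) {n : ℕ} {C : Subgroup H} (hyp : y ≠ p) (hn : 0 < n)
    (hC : SLD H (SW P Y hY) C p n) :
    ∃ e ∈ Cfsg.charDegrees G, y ∣ e ∧ (Ker H (SW P Y hY)).relIndex C ∣ e := by
  have hfW := finite_W hp h
  haveI := nontrivial_of_card hp hn hC.card
  obtain ⟨v, hv⟩ := exists_ne (0 : SW P Y hY)
  have hv0 : v.val ≠ 0 := fun h0 => hv (Sub.ext h0)
  obtain ⟨e, he, hde, -⟩ := h.cfgW v.val hv0 1 H681.DegBasic.one_mem
  rw [mul_one] at hde
  have hst : MulAction.stabilizer H v = MulAction.stabilizer H v.val := by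
    ext x
    rw [MulAction.mem_stabilizer_iff, MulAction.mem_stabilizer_iff]
    exact Sub.smul_eq_iff x v
  refine ⟨e, he, ?_, ?_⟩
  · refine Dvd.dvd.trans ?_ hde
    by_contra hcon
    have h1 : v.val ∈ com (LC P) (Y : Subgroup H) ⊓ fixed (LC P) (Y : Subgroup H) :=
      ⟨v.mem, le_of_not_dvd Y hY _ hcon⟩
    rw [fixed_inf_com (V := LC P) (Y : Subgroup H) (coprime_card hp h hyp Y)] at h1
    exact hv0 h1
  · have h1 := hC.stab v hv
    rw [hst] at h1
    exact h1.trans hde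

/-- The form argument: `|H : K(V)|` and `|C : K|` are not coprime. -/
theorem no_coprime (hp : p.Prime) (h : T2 G M P H p) {y s : ℕ} [hy : Fact y.Prime] [hs : Fact s.Prime] (hyp : y ≠ p)
    (hsp : s ≠ p) (hna : NA p y G) (Y : Sylow y H) (hY : (Y : Subgroup H).Normal)
    (hYV : Triv (LC M) (Y : Subgroup H)) (hYW : ¬ Triv (LC P) (Y : Subgroup H)) {n : ℕ} {C : Subgroup H} (hn : 0 < n)
    (hC : SLD H (SW P Y hY) C p n) (huf : UF s H (⊥ : AddSubgroup (SW P Y hY))) (S : Sylow s H)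
    (hS : ¬ Triv (SW P Y hY) (S : Subgroup H))
    (hcop : (Ker H (LC M)).index.Coprime ((Ker H (SW P Y hY)).relIndex C)) : False := by
  classical
  have hfW := finite_W hp h
  set K := Ker H (SW P Y hY) with hK
  set c := K.relIndex C with hc
  set d := (Ker H (LC M)).index with hd
  obtain ⟨g, hgC, hgen, hgirr⟩ := hC.gen
  have hd0 : 0 < d := Nat.pos_of_ne_zero Subgroup.index_ne_zero_of_finite
  have hc0 : 0 < c := Nat.pos_of_ne_zero Subgroup.index_ne_zero_of_finite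
  -- `a = 0` modulo `d`, `a = 1` modulo `c`
  obtain ⟨j, hj⟩ : ∃ j, d ∣ 1 + c * j := by
    obtain ⟨a, ha0, ha1⟩ := Nat.chineseRemainder hcop 0 1
    have hda : d ∣ a := (Nat.modEq_zero_iff_dvd).1 ha0
    have h1 : 1 ≤ a + c * d := le_trans (Nat.mul_pos hc0 hd0) (Nat.le_add_left _ _)
    have h2 : a + c * d ≡ 1 [MOD c] := by
      have := ha1.add (Nat.modEq_zero_iff_dvd.2 (Dvd.intro d rfl : c ∣ c * d))
      rwa [add_zero] at this
    obtain ⟨j, hj⟩ := (Nat.modEq_iff_dvd' h1).1 h2.symm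
    refine ⟨j, ?_⟩
    have h3 : 1 + c * j = a + c * d := by omega
    rw [h3]
    exact dvd_add hda (Dvd.intro_left c rfl)
  have hgc : g ^ c ∈ K := by
    haveI : K.Normal := instKerNormal
    haveI : (K.subgroupOf C).Normal := (inferInstance : K.Normal).subgroupOf C
    have h1 := Subgroup.pow_index_mem (K.subgroupOf C) (⟨g, hgC⟩ : C)
    exact h1
  set x : H := (g ^ c) ^ j with hx
  have hxK : x ∈ K := K.pow_mem hgc j
  set g' : H := g ^ (1 + c * j) with hg'
  have hgx : g' = g * x := by rw [hg', hx, pow_add, pow_one, pow_mul]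
  have hcomm : Commute g x := ((Commute.refl g).pow_right c).pow_right j
  have hg'C : g' ∈ C := C.pow_mem hgC _
  have hg'V : ∀ v : LC M, g' • v = v := by
    obtain ⟨k, hk⟩ := hj
    have h1 : g' ∈ Ker H (LC M) := by
      rw [hg', hk, pow_mul]
      exact (Ker H (LC M)).pow_mem (Subgroup.pow_index_mem _ g) k
    exact h1
  have hsm : ∀ w : SW P Y hY, g' • w = g • w := by
    intro w
    rw [hgx, mul_smul, (mem_Ker.1 hxK) w]
  have hgen' : ∀ c ∈ C, ∃ k : ℕ, c * (g' ^ k)⁻¹ ∈ K := by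
    intro c0 hc0
    obtain ⟨k, hk⟩ := hgen c0 hc0
    refine ⟨k, ?_⟩
    have h1 : c0 * (g' ^ k)⁻¹ = (c0 * (g ^ k)⁻¹) * (x ^ k)⁻¹ := by
      rw [hgx, hcomm.mul_pow, (hcomm.pow_pow k k).eq, mul_inv_rev, mul_assoc]
    rw [h1]
    exact K.mul_mem hk (K.inv_mem (K.pow_mem hxK k))
  have hirr' : ∀ Y0 : AddSubgroup (LC P), Y0 ≤ com (LC P) (Y : Subgroup H) → (∀ y ∈ Y0, g' • y ∈ Y0) →
      Y0 = ⊥ ∨ Y0 = com (LC P) (Y : Subgroup H) := by
    intro Y0 hle hinv
    let val : SW P Y hY →+ LC P := (com (LC P) (Y : Subgroup H)).subtype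
    have hval : ∀ w : SW P Y hY, val w = w.val := fun _ => rfl
    have h1 : ∀ w ∈ Y0.comap val, g • w ∈ Y0.comap val := by
      intro w hw
      rw [AddSubgroup.mem_comap, hval] at hw ⊢
      rw [← hsm w]
      exact hinv _ hw
    rcases hgirr (Y0.comap val) h1 with h2 | h2
    · left
      rw [eq_bot_iff]
      intro w hw
      have h3 : H670.Palfy.Sub.mk (inv_com (V := LC P) (Y : Subgroup H) hY) w (hle hw) ∈ Y0.comap val := hw
      rw [h2, AddSubgroup.mem_bot] at h3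
      exact AddSubgroup.mem_bot.2 (congrArg Sub.val h3)
    · right
      refine le_antisymm hle fun w hw => ?_
      have h3 : H670.Palfy.Sub.mk (inv_com (V := LC P) (Y : Subgroup H) hY) w hw ∈ Y0.comap val := by
        rw [h2]; trivial
      exact h3
  obtain ⟨i, hi, hpow⟩ := h.pow_com y hy.out hyp hna Y hY hYV hYW n hC.card g' hg'V hirr'
  have hpow' : g' ^ (p ^ i + 1) ∈ K := by
    rw [hK, mem_Ker]
    intro w
    exact Sub.ext (hpow w.val w.mem)
  exact hC.no_pow hp hn hsp huf S hS hg'C hgen' hi hpow'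

end T2

/-- The primes of the degrees are `A ∪ B`, no degree is divisible by an element of `A` and one of `B`. -/
structure Two (G : Type u) [Group G] (A B : Finset ℕ) : Prop where
  card : A.card = B.card
  two : 2 ≤ A.card
  disj : Disjoint A B
  mem : ∀ p : ℕ, p ∈ A ∪ B ↔ p.Prime ∧ Rho p G
  na : ∀ a ∈ A, ∀ b ∈ B, NA a b G

theorem Two.symm {G : Type u} [Group G] {A B : Finset ℕ} (h : Two G A B) : Two G B A :=
  ⟨h.card.symm, h.card ▸ h.two, h.disj.symm, fun p => by rw [Finset.union_comm]; exact h.mem p,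
    fun b hb a ha => na_symm (h.na a ha b hb)⟩

theorem Two.quot {G : Type u} [Group G] {A B : Finset ℕ} (h : Two G A B) {M : Subgroup G} [M.Normal]
    (hM : ∀ p ∈ A ∪ B, Rho p (G ⧸ M)) : Two (G ⧸ M) A B :=
  ⟨h.card, h.two, h.disj, fun p => ⟨fun hp => ⟨((h.mem p).1 hp).1, hM p hp⟩,
    fun hp => (h.mem p).2 ⟨hp.1, rho_of_quot hp.2⟩⟩, fun a ha b hb => na_quot (h.na a ha b hb)⟩

section main

variable {G : Type u} [Group G] [Finite G] {A B : Finset ℕ}

theorem Two.primeA (h : Two G A B) {a : ℕ} (ha : a ∈ A) : a.Prime := ((h.mem a).1 (Finset.mem_union_left _ ha)).1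

theorem Two.primeB (h : Two G A B) {b : ℕ} (hb : b ∈ B) : b.Prime := ((h.mem b).1 (Finset.mem_union_right _ hb)).1

theorem Two.rhoA (h : Two G A B) {a : ℕ} (ha : a ∈ A) : Rho a G := ((h.mem a).1 (Finset.mem_union_left _ ha)).2

theorem Two.rhoB (h : Two G A B) {b : ℕ} (hb : b ∈ B) : Rho b G := ((h.mem b).1 (Finset.mem_union_right _ hb)).2

theorem Two.ne (h : Two G A B) {a b : ℕ} (ha : a ∈ A) (hb : b ∈ B) : a ≠ b :=
  fun hab => Finset.disjoint_left.1 h.disj ha (hab ▸ hb)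

/-- the primes of a degree divisible by an element of `A` lie in `A` -/
theorem Two.mem_A (h : Two G A B) {a e t : ℕ} (ha : a ∈ A) (he : e ∈ Cfsg.charDegrees G) (hae : a ∣ e)
    (ht : t.Prime) (hte : t ∣ e) : t ∈ A := by
  rcases Finset.mem_union.1 ((h.mem t).2 ⟨ht, e, he, hte⟩) with h1 | h1
  · exact h1
  · exact (h.na a ha t h1 e he hae hte).elim

theorem Two.mem_B (h : Two G A B) {b e t : ℕ} (hb : b ∈ B) (he : e ∈ Cfsg.charDegrees G) (hbe : b ∣ e)
    (ht : t.Prime) (hte : t ∣ e) : t ∈ B := by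
  rcases Finset.mem_union.1 ((h.mem t).2 ⟨ht, e, he, hte⟩) with h1 | h1
  · exact (h.na t h1 b hb e he hte hbe).elim
  · exact h1

/-- the first configuration -/
theorem two_one (hSL : FactSL.{u, u}) (hN : FactNum) (hG : Group.IsSolvable G) (h2 : Two G A B) {M : Subgroup G}
    [M.Normal] {H : Subgroup G} {p : ℕ} (hpA : p ∈ A) (h : T1 G M H p) : False := by
  obtain ⟨l, n, hl, hlp, hn, hV⟩ := h.card
  haveI : Finite (LC M) := Nat.finite_of_card_ne_zero (by rw [hV]; exact (Nat.pow_pos hl.pos).ne')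
  have hVn := nontrivial_of_card hl hn hV
  have hH : Group.IsSolvable H := inferInstance
  have huf : ∀ b ∈ B, UF b H (⊥ : AddSubgroup (LC M)) := by
    intro b hb
    haveI : Fact b.Prime := ⟨h2.primeB hb⟩
    exact uf_of_cfg hH h.cfg fun e he h3 h4 => h2.na p hpA b hb e he h3 h4
  refine core hSL hN hH hl hn hV h.irr h.cfg (A := A) (B := B) (h2.card ▸ h2.two) h2.card.le
    (fun b hb => h2.primeB hb) (fun e he hpe t ht hte => h2.mem_A hpA he hpe ht hte) huf ?_
  intro b hb Z hZ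
  haveI : Fact b.Prime := ⟨h2.primeB hb⟩
  have hN := (huf b hb).normal_of_triv (by
    obtain ⟨v, hv⟩ := exists_ne (0 : LC M)
    intro h1
    exact hv ((h1 ▸ AddSubgroup.mem_top v : v ∈ (⊥ : AddSubgroup (LC M))))) hZ
  exact h.nt b (h2.primeB hb) (h2.rhoB hb) Z hN
    (comm_of_cfg hH h.cfg (fun e he h3 h4 => h2.na p hpA b hb e he h3 h4) hVn Z) hZ

/-- the second configuration -/
theorem two_two (hSL : FactSL.{u, u}) (hN : FactNum) (hG : Group.IsSolvable G) (h2 : Two G A B) {M P : Subgroup G}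
    [M.Normal] [P.Normal] {H : Subgroup G} {p : ℕ} (hpA : p ∈ A) (h : T2 G M P H p) : False := by
  have hp := h2.primeA hpA
  obtain ⟨n, hn, hV⟩ := h.card
  haveI := finite_V hp h
  haveI := finite_W hp h
  have hVn := nontrivial_of_card hp hn hV
  have hH : Group.IsSolvable H := inferInstance
  have huf : ∀ b ∈ B, UF b H (⊥ : AddSubgroup (LC M)) := by
    intro b hb
    haveI : Fact b.Prime := ⟨h2.primeB hb⟩
    exact uf_of_cfg hH h.cfgV fun e he h3 h4 => h2.na p hpA b hb e he h3 h4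
  have hbot : (⊥ : AddSubgroup (LC M)) ≠ ⊤ := by
    obtain ⟨v, hv⟩ := exists_ne (0 : LC M)
    intro h1
    exact hv ((h1 ▸ AddSubgroup.mem_top v : v ∈ (⊥ : AddSubgroup (LC M))))
  by_cases hall : ∀ b ∈ B, ∀ Z : Sylow b H, ¬ Triv (LC M) (Z : Subgroup H)
  · exact core hSL hN hH hp hn hV h.irr h.cfgV (A := A) (B := B) (h2.card ▸ h2.two) h2.card.le
      (fun b hb => h2.primeB hb) (fun e he hpe t ht hte => h2.mem_A hpA he hpe ht hte) huf hall
  push Not at hall
  obtain ⟨r, hr, R, hRV⟩ := hall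
  haveI hrp : Fact r.Prime := ⟨h2.primeB hr⟩
  have hrne : r ≠ p := (h2.ne hpA hr).symm
  have hR : (R : Subgroup H).Normal := (huf r hr).normal_of_triv hbot hRV
  have hRW : ¬ Triv (LC P) (R : Subgroup H) := h.nt r hrp.out hrne (h2.rhoB hr) R hR
    (comm_of_cfg hH h.cfgV (fun e he h3 h4 => h2.na p hpA r hr e he h3 h4) hVn R)
  obtain ⟨q, hq, hqp⟩ := Finset.exists_mem_ne (show 1 < A.card from h2.two) p
  haveI hqq : Fact q.Prime := ⟨h2.primeA hq⟩
  obtain ⟨m, C, hm, hcard, hC, hufq, hntq, -, -, hCd⟩ := factB hSL hG hp h hrne hqp (na_symm (h2.na q hq r hr))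
    (h2.rhoA hq) R hR hRW
  obtain ⟨Q⟩ : Nonempty (Sylow q H) := inferInstance
  have hqC : q ∣ C.index := (hC.uf q hqq.out hufq Q (hntq Q)).1
  have hKV : Ker H (SW P R hR) ≤ Ker H (LC M) := by
    intro x hx
    refine h.ker_com r hrp.out hrne (h2.na p hpA r hr) R hR hRV hRW x fun w hw => ?_
    exact congrArg Sub.val (hx (H670.Palfy.Sub.mk (inv_com (V := LC P) (R : Subgroup H) hR) w hw))
  -- all elements of `B` are trivial on `V`
  have hBV : ∀ s ∈ B, ∀ S : Sylow s H, Triv (LC M) (S : Subgroup H) := by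
    intro s hs S
    haveI : Fact s.Prime := ⟨h2.primeB hs⟩
    exact hC.triv (fun h3 => h2.na q hq s hs _ hCd hqC h3) hKV (huf s hs) S
  obtain ⟨e, he, hre, hce⟩ := factD hp h R hR hrne hm hC
  refine no_coprime hp h hrne hqp (h2.na p hpA r hr) R hR hRV hRW hm hC hufq Q (hntq Q) ?_
  rw [Nat.coprime_comm]
  refine Nat.Coprime.symm (Nat.coprime_of_dvd fun t ht h3 h4 => ?_)
  have htB : t ∈ B := h2.mem_B hr he hre ht (h4.trans hce)
  haveI : Fact t.Prime := ⟨ht⟩
  obtain ⟨T⟩ : Nonempty (Sylow t H) := inferInstance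
  exact not_dvd_index T (hBV t htB T) h3

end main

theorem noTwo_aux (hSL : FactSL.{u, u}) (hN : FactNum) (h1 : FactT1.{u}) (hpre : FactT2pre.{u}) (ha : FactT2a.{u})
    (hb : FactT2b.{u}) (N : ℕ) : ∀ (G : Type u) [Group G] [Finite G], Nat.card G = N → Group.IsSolvable G →
    ∀ A B : Finset ℕ, Two G A B → False := by
  induction N using Nat.strong_induction_on with
  | _ N ih =>
    intro G _ _ hc hG A B h
    have hnt : Nontrivial G := by
      obtain ⟨a, ha⟩ : A.Nonempty := Finset.card_pos.1 (by have := h.two; omega)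
      obtain ⟨e, he, hae⟩ := h.rhoA ha
      have h3 : 1 < Nat.card G := by
        have h4 := Nat.le_of_dvd (Nat.card_pos) (hae.trans (H681.DegBasic.dvd_card he))
        exact lt_of_lt_of_le (h.primeA ha).one_lt h4
      exact Finite.one_lt_card_iff_nontrivial.1 h3
    obtain ⟨M, hM⟩ := exists_minN (G := G)
    haveI := hM.nrm
    have hlt : Nat.card (G ⧸ M) < N := by
      rw [← hc]
      have h3 := M.card_eq_card_quotient_mul_card_subgroup
      have h4 : 1 < Nat.card M := (Subgroup.one_lt_card_iff_ne_bot M).2 hM.ne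
      rw [h3]
      exact lt_mul_of_one_lt_right Nat.card_pos h4
    have hGM : Group.IsSolvable (G ⧸ M) := inferInstance
    have key : ∀ A B : Finset ℕ, Two G A B → ∀ p ∈ A, ¬ Rho p (G ⧸ M) → False := by
      intro A B h p hpA hp
      by_cases hPM : IsPGroup p M
      · obtain ⟨P, H, h3⟩ := hpre G hG M p (h.primeA hpA) hM (h.rhoA hpA) hp hPM
        haveI := h3.nrm
        exact two_two hSL hN hG h hpA (T2.of hG h3 ha hb)
      · obtain ⟨H, h3⟩ := h1 G hG M p (h.primeA hpA) hM (h.rhoA hpA) hp hPM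
        exact two_one hSL hN hG h hpA h3
    by_cases hall : ∀ p ∈ A ∪ B, Rho p (G ⧸ M)
    · exact ih _ hlt (G ⧸ M) rfl hGM A B (h.quot hall)
    · push Not at hall
      obtain ⟨p, hpAB, hp⟩ := hall
      rcases Finset.mem_union.1 hpAB with hpA | hpB
      · exact key A B h p hpA hp
      · exact key B A h.symm p hpB hp

/-- The statement. -/
def NoTwo : Prop := ∀ (G : Type u) [Group G] [Finite G], Group.IsSolvable G → ∀ A B : Finset ℕ, A.card = B.card →
  2 ≤ A.card → Disjoint A B → (∀ p : ℕ, p ∈ A ∪ B ↔ p.Prime ∧ Rho p G) → (∀ a ∈ A, ∀ b ∈ B, NA a b G) → False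

/-- **`2 K_n` is not the degree graph of a solvable group.** -/
theorem noTwo (hSL : FactSL.{u, u}) (hN : FactNum) (h1 : FactT1.{u}) (hpre : FactT2pre.{u}) (ha : FactT2a.{u})
    (hb : FactT2b.{u}) : NoTwo.{u} := fun G _ _ hG A B h3 h4 h5 h6 h7 =>
  noTwo_aux hSL hN h1 hpre ha hb _ G rfl hG A B ⟨h3, h4, h5, h6, h7⟩

end Cfsg.Agent.H377.DegSolv
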